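import Cfsg.Agent.H316.HT.Defs
import Cfsg.Agent.CharDeep.CliffordCorr
import Cfsg.Agent.CharDeep.PowerDegrees
import Cfsg.Agent.Characters.Linear
import Cfsg.Agent.Lib.NormalAbelian

/-!
# S4933, P5: a `p`-group with degrees `1, p ^ a` permuting independent subgroups

If the `p`-group `P` has the character degrees `1` and `p ^ a`, permutes pairwise commuting independent
nontrivial subgroups `D i`, and the permutation group is abelian, then its order divides `p ^ a`.

Proof: `Z i = D i ∩ C (Stab i)` is a nontrivial equivariant family, `E = ⨆ Z i` is normal and the direct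
product of the `Z i`; a linear character of `E` nontrivial exactly on one `Z i` per orbit has its stabiliser in
the kernel of the action, hence the index of the kernel is at most the degree of a character above it.
-/

set_option autoImplicit false

open Subgroup

namespace Cfsg.Agent.H195.HT

open Cfsg Cfsg.Agent.H316.HT Cfsg.Agent.Characters.Core

universe u v

variable {P : Type u} [Group P] {ι : Type v} [MulAction P ι]

/-- the elements of `D i` centralised by the stabiliser of `i` -/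
def Zi (D : ι → Subgroup P) (i : ι) : Subgroup P :=
  D i ⊓ centralizer ((MulAction.stabilizer P i : Subgroup P) : Set P)

theorem mem_Zi {D : ι → Subgroup P} {i : ι} {x : P} :
    x ∈ Zi D i ↔ x ∈ D i ∧ ∀ g : P, g • i = i → g * x = x * g := by
  rw [Zi, mem_inf, mem_centralizer_iff]
  rfl

theorem Zi_smul {D : ι → Subgroup P} (hDg : ∀ (g : P) (i : ι), ∀ x, x ∈ D i ↔ g * x * g⁻¹ ∈ D (g • i))
    (g : P) (i : ι) {x : P} (hx : x ∈ Zi D i) : g * x * g⁻¹ ∈ Zi D (g • i) := by
  rw [mem_Zi] at hx ⊢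
  refine ⟨(hDg g i x).1 hx.1, fun h hh => ?_⟩
  have h1 : (g⁻¹ * h * g) • i = i := by
    rw [mul_smul, mul_smul, hh, inv_smul_smul]
  have h2 := hx.2 _ h1
  calc h * (g * x * g⁻¹) = g * ((g⁻¹ * h * g) * x) * g⁻¹ := by group
    _ = g * (x * (g⁻¹ * h * g)) * g⁻¹ := by rw [h2]
    _ = g * x * g⁻¹ * h := by group

theorem smul_eq_of_mem {D : ι → Subgroup P} (hD : ∀ i, D i ≠ ⊥)
    (hDg : ∀ (g : P) (i : ι), ∀ x, x ∈ D i ↔ g * x * g⁻¹ ∈ D (g • i)) (hind : iSupIndep D) (i : ι) {x : P}
    (hx : x ∈ D i) : x • i = i := by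
  by_contra hne
  have h1 : D i ≤ D (x • i) := by
    intro y hy
    have h2 : x⁻¹ * y * x ∈ D i := mul_mem (mul_mem (inv_mem hx) hy) hx
    have h3 := (hDg x i _).1 h2
    have h4 : x * (x⁻¹ * y * x) * x⁻¹ = y := by group
    rwa [h4] at h3
  have h4 : Disjoint (D i) (D (x • i)) := hind.pairwiseDisjoint (Ne.symm hne)
  exact hD i (h4.eq_bot_of_le h1)

theorem Zi_ne_bot [Finite P] {p : ℕ} [hp : Fact p.Prime] (hP : IsPGroup p P) {D : ι → Subgroup P}
    (hD : ∀ i, D i ≠ ⊥) (hDg : ∀ (g : P) (i : ι), ∀ x, x ∈ D i ↔ g * x * g⁻¹ ∈ D (g • i))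
    (hind : iSupIndep D) (i : ι) : ∃ x ∈ Zi D i, x ≠ 1 := by
  set Q : Subgroup P := MulAction.stabilizer P i with hQ
  have hle : D i ≤ Q := fun x hx => smul_eq_of_mem hD hDg hind i hx
  have hQp : IsPGroup p Q := hP.to_subgroup Q
  have : Group.IsNilpotent Q := hQp.isNilpotent
  have hn : ((D i).subgroupOf Q).Normal := by
    refine ⟨fun x hx g => ?_⟩
    rw [mem_subgroupOf] at hx ⊢
    have h1 := (hDg g i _).1 hx
    rwa [show (g : P) • i = i from g.2] at h1
  have hne : (D i).subgroupOf Q ≠ ⊥ := by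
    intro h
    rw [subgroupOf_eq_bot] at h
    exact hD i (h.eq_bot_of_le hle)
  have h1 := Cfsg.Agent.Lib.NormalAbelian.normal_inf_center_ne_bot ((D i).subgroupOf Q) hne
  obtain ⟨⟨x, hx⟩, hx1⟩ := Subgroup.ne_bot_iff_exists_ne_one.1 h1
  obtain ⟨hxD, hxc⟩ := mem_inf.1 hx
  refine ⟨(x : P), mem_Zi.2 ⟨mem_subgroupOf.1 hxD, fun g hg => ?_⟩, fun h => hx1 ?_⟩
  · have h2 := Subgroup.mem_center_iff.1 hxc ⟨g, hg⟩
    exact congrArg Subtype.val h2
  · exact Subtype.ext (Subtype.ext h)

/-- A finite commutative group with more than one element has a nontrivial linear character. -/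
theorem exists_char {Z : Type*} [Group Z] [Finite Z] (hc : ∀ a b : Z, a * b = b * a) {t : Z} (ht : t ≠ 1) :
    ∃ lam : Z →* ℂˣ, lam t ≠ 1 := by
  let _ : CommGroup Z := { (inferInstance : Group Z) with mul_comm := hc }
  have hexp : Monoid.exponent Z ≠ 0 := Monoid.exponent_ne_zero_of_finite
  have : NeZero (Monoid.exponent Z) := ⟨hexp⟩
  exact CommGroup.exists_apply_ne_one_of_hasEnoughRootsOfUnity Z ℂ ht

theorem charDegree_cast {N : Type u} [Group N] [Finite N] (θ : IrrCharacter N) :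
    (θ : N → ℂ) 1 = (charDegree (θ : N → ℂ) : ℂ) := by
  obtain ⟨n, -, hn⟩ := isIrr_apply_one θ.2
  rw [charDegree, hn]
  simp

/-- the stabiliser of a linear character of a normal subgroup -/
def stab {E : Subgroup P} (hE : E.Normal) (μ : E →* ℂˣ) : Subgroup P where
  carrier := {g | ∀ n : E, μ ⟨g * n * g⁻¹, hE.conj_mem (n : P) n.2 g⟩ = μ n}
  mul_mem' := by
    intro g h hg hh n
    have h1 := hg ⟨h * n * h⁻¹, hE.conj_mem (n : P) n.2 h⟩
    rw [hh n] at h1
    rw [← h1]
    congr 1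
    apply Subtype.ext
    show g * h * n * (g * h)⁻¹ = g * (h * n * h⁻¹) * g⁻¹
    group
  one_mem' := by
    intro n
    congr 1
    apply Subtype.ext
    show 1 * (n : P) * 1⁻¹ = n
    group
  inv_mem' := by
    intro g hg n
    have h1 := hg ⟨g⁻¹ * n * g⁻¹⁻¹, hE.conj_mem (n : P) n.2 g⁻¹⟩
    refine h1.symm.trans ?_
    congr 1
    apply Subtype.ext
    show g * (g⁻¹ * n * g⁻¹⁻¹) * g⁻¹ = (n : P)
    group

theorem mem_stab {E : Subgroup P} (hE : E.Normal) (μ : E →* ℂˣ) {g : P} :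
    g ∈ stab hE μ ↔ ∀ n : E, μ ⟨g * n * g⁻¹, hE.conj_mem (n : P) n.2 g⟩ = μ n := Iff.rfl

/-- the index of the stabiliser of a linear character is at most a degree above it -/
theorem index_stab_le [Finite P] {E : Subgroup P} (hE : E.Normal) (μ : E →* ℂˣ) :
    ∃ χ : IrrCharacter P, (stab hE μ).index ≤ charDegree (χ : P → ℂ) := by
  classical
  have := Fintype.ofFinite P
  have := Fintype.ofFinite E
  have hμ : IsIrrCharacter E (fun n : E => ((μ n : ℂˣ) : ℂ)) := Cfsg.Agent.Characters.Linear.isIrrCharacter_hom μ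
  obtain ⟨χ, hχ, hne⟩ := Cfsg.Agent.CharDeep.PowerDegrees.exists_irr_over E hμ
  refine ⟨⟨χ, hχ⟩, ?_⟩
  obtain ⟨e, he⟩ := classInner_isNat
    (Cfsg.Agent.Characters.Clifford.isCharacter_restrict E (isIrr_isCharacter hχ)) (isIrr_isCharacter hμ)
  have he0 : e ≠ 0 := by
    rintro rfl
    rw [he] at hne
    simp at hne
  have h1 := Cfsg.Agent.CharDeep.CliffordCorr.index_mul_le_degree E hμ (stab hE μ)
    (fun g => by
      rw [mem_stab]
      constructor
      · intro h n
        exact congrArg _ (h n)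
      · intro h n
        exact Units.ext (h n)) (isIrr_isCharacter hχ) (d := 1) he (by simp)
    (charDegree_cast (⟨χ, hχ⟩ : IrrCharacter P))
  refine le_trans ?_ h1
  exact Nat.le_mul_of_pos_right _ (by omega)

theorem card_perm_le [Finite P] {p : ℕ} [hp : Fact p.Prime] (hP : IsPGroup p P) {a : ℕ} (hcd : CD p a P)
    [Finite ι] (D : ι → Subgroup P) (hD : ∀ i, D i ≠ ⊥)
    (hDg : ∀ (g : P) (i : ι), ∀ x, x ∈ D i ↔ g * x * g⁻¹ ∈ D (g • i))
    (hcomm : ∀ i j, i ≠ j → ∀ x ∈ D i, ∀ y ∈ D j, x * y = y * x) (hind : iSupIndep D)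
    (hab : ∀ (x y : P) (i : ι), (x * y) • i = (y * x) • i) :
    (MulAction.toPermHom P ι).ker.index ∣ p ^ a := by
  classical
  have := Fintype.ofFinite ι
  have := Fintype.ofFinite P
  have hZle : ∀ i, Zi D i ≤ D i := fun i x hx => (mem_Zi.1 hx).1
  have hindZ : iSupIndep (Zi D) := hind.mono hZle
  have hc : Pairwise fun i j : ι => ∀ x y : P, x ∈ Zi D i → y ∈ Zi D j → Commute x y :=
    fun i j hij x y hx hy => hcomm i j hij x (hZle i hx) y (hZle j hy)
  let φ := Subgroup.noncommPiCoprod hc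
  have hφ : Function.Injective φ := Subgroup.injective_noncommPiCoprod_of_iSupIndep hindZ
  have hZab : ∀ i, ∀ x y : Zi D i, x * y = y * x := by
    intro i x y
    apply Subtype.ext
    exact (mem_Zi.1 y.2).2 x (smul_eq_of_mem hD hDg hind i (hZle i x.2))
  choose t htZ ht1 using fun i => Zi_ne_bot hP hD hDg hind i
  have hlam : ∀ i, ∃ lam : Zi D i →* ℂˣ, lam ⟨t i, htZ i⟩ ≠ 1 := fun i =>
    exists_char (hZab i) (t := ⟨t i, htZ i⟩) fun h => ht1 i (congrArg Subtype.val h)
  choose lam hlam using hlam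
  -- representatives
  let r : ι → ι := fun i => (Quotient.mk (MulAction.orbitRel P ι) i).out
  have hr : ∀ i, ∃ h : P, h • r i = i := by
    intro i
    have h1 : MulAction.orbitRel P ι (r i) i := Quotient.mk_out (s := MulAction.orbitRel P ι) i
    have h2 := (MulAction.orbitRel P ι).symm h1
    obtain ⟨g, hg⟩ := h2
    exact ⟨g, hg⟩
  have hrg : ∀ (g : P) (i : ι), r (g • i) = r i := by
    intro g i
    have h1 : Quotient.mk (MulAction.orbitRel P ι) (g • i) = Quotient.mk (MulAction.orbitRel P ι) i :=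
      Quotient.sound (s := MulAction.orbitRel P ι) ⟨g, rfl⟩
    show (Quotient.mk (MulAction.orbitRel P ι) (g • i)).out = _
    rw [h1]
  have hrr : ∀ i, r (r i) = r i := by
    intro i
    obtain ⟨h, hh⟩ := hr i
    conv_rhs => rw [← hh]
    rw [hrg]
  let lam' : ∀ i, Zi D i →* ℂˣ := fun i => if r i = i then lam i else 1
  let ν : (∀ i, Zi D i) →* ℂˣ :=
    { toFun := fun f => ∏ i, lam' i (f i)
      map_one' := by simp
      map_mul' := fun f g => by simp [Finset.prod_mul_distrib] }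
  let e : (∀ i, Zi D i) ≃* φ.range := MonoidHom.ofInjective hφ
  let μ : φ.range →* ℂˣ := ν.comp e.symm.toMonoidHom
  have hE : φ.range = ⨆ i, Zi D i := Subgroup.noncommPiCoprod_range (hcomm := hc)
  have hEn : φ.range.Normal := by
    refine ⟨fun x hx g => ?_⟩
    have h1 : (⨆ i, Zi D i).map (MulAut.conj g).toMonoidHom ≤ ⨆ i, Zi D i := by
      rw [Subgroup.map_iSup]
      refine iSup_le fun i => ?_
      rintro _ ⟨y, hy, rfl⟩
      exact (le_iSup (Zi D) (g • i)) (Zi_smul hDg g i hy)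
    rw [hE] at hx ⊢
    exact h1 ⟨x, hx, rfl⟩
  have hμ : ∀ i (x : P) (hx : x ∈ Zi D i) (hxE : x ∈ φ.range), μ ⟨x, hxE⟩ = lam' i ⟨x, hx⟩ := by
    intro i x hx hxE
    have h1 : e (Pi.mulSingle i ⟨x, hx⟩) = ⟨x, hxE⟩ :=
      Subtype.ext (Subgroup.noncommPiCoprod_mulSingle (hcomm := hc) i ⟨x, hx⟩)
    show ν (e.symm ⟨x, hxE⟩) = _
    rw [← h1, MulEquiv.symm_apply_apply]
    show ∏ j, lam' j ((Pi.mulSingle i ⟨x, hx⟩ : ∀ i, Zi D i) j) = _
    rw [Finset.prod_eq_single i]
    · rw [Pi.mulSingle_eq_same]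
    · intro j _ hj
      rw [Pi.mulSingle_eq_of_ne hj, map_one]
    · intro h
      exact absurd (Finset.mem_univ i) h
  have hT : stab hEn μ ≤ (MulAction.toPermHom P ι).ker := by
    intro g hg
    have hfix : ∀ i, r i = i → g • i = i := by
      intro i hi
      by_contra hne
      have hxE : t i ∈ φ.range := by
        rw [hE]
        exact (le_iSup (Zi D) i) (htZ i)
      have h1 := (mem_stab hEn μ).1 hg ⟨t i, hxE⟩
      rw [hμ i (t i) (htZ i) hxE] at h1
      have h2 := hμ (g • i) (g * t i * g⁻¹) (Zi_smul hDg g i (htZ i)) (hEn.conj_mem _ hxE g)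
      rw [h2] at h1
      have h3 : lam' (g • i) = 1 := by
        show (if r (g • i) = g • i then lam (g • i) else 1) = 1
        rw [if_neg]
        rw [hrg, hi]
        exact fun h => hne h.symm
      have h4 : lam' i = lam i := if_pos hi
      rw [h3, h4, MonoidHom.one_apply] at h1
      exact hlam i h1.symm
    rw [MonoidHom.mem_ker]
    ext j
    show g • j = j
    obtain ⟨h, hh⟩ := hr j
    calc g • j = (g * h) • r j := by rw [mul_smul, hh]
      _ = (h * g) • r j := hab g h _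
      _ = h • r j := by rw [mul_smul, hfix (r j) (hrr j)]
      _ = j := hh
  obtain ⟨χ, hχ⟩ := index_stab_le hEn μ
  have h1 : (MulAction.toPermHom P ι).ker.index ∣ (stab hEn μ).index := Subgroup.index_dvd_of_le hT
  have h2 : (MulAction.toPermHom P ι).ker.index ≤ p ^ a := by
    have h3 : (stab hEn μ).index ≠ 0 := Subgroup.index_ne_zero_of_finite
    have h4 := Nat.le_of_dvd (Nat.pos_of_ne_zero h3) h1
    have h5 : charDegree (χ : P → ℂ) ≤ p ^ a := by
      rcases hcd.1 χ with h | h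
      · rw [h]
        exact Nat.one_le_pow _ _ hp.out.pos
      · exact h.le
    omega
  obtain ⟨k, hk⟩ := hP.index (MulAction.toPermHom P ι).ker
  rw [hk] at h2 ⊢
  exact pow_dvd_pow p ((Nat.pow_le_pow_iff_right hp.out.one_lt).1 h2)

end Cfsg.Agent.H195.HT
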