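import Cfsg.Agent.H316.HT.Defs
import Cfsg.Agent.H649.Transport
import Cfsg.Agent.Characters.Core
import Cfsg.Agent.Blocks.LocalRing

/-!
# S4933, top level: transport of `CD`, `Good` and reduction to groups in `Type`

* `CD.congr`, `Good.congr` : transport along isomorphisms (two universes);
* `blockHeight_eq_vd`      : the height in the principal block is the exponent of `p` in the degree;
* `top`                    : S4933 from the statement `Good` for the groups in `Type`.
-/

set_option autoImplicit false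

namespace Cfsg.Agent.H195.HT

open Cfsg Cfsg.Agent.H316.HT Cfsg.Agent.H649

universe u v

theorem vd_irrMap (p : ℕ) {G : Type u} [Group G] {H : Type v} [Group H] (e : G ≃* H) (χ : IrrCharacter G) :
    vd p (irrMap e χ : H → ℂ) = vd p (χ : G → ℂ) := by
  rw [vd, vd, charDegree_irrMap]

theorem CD_congr {p a : ℕ} {P : Type u} [Group P] {Q : Type v} [Group Q] (e : P ≃* Q) (h : CD p a P) : CD p a Q := by
  obtain ⟨h1, φ, hφ⟩ := h
  refine ⟨fun ψ => ?_, irrMap e φ, by rw [charDegree_irrMap]; exact hφ⟩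
  have h2 := h1 (irrMap e.symm ψ)
  rwa [charDegree_irrMap] at h2

theorem Good_congr {p a : ℕ} {M : Ideal AlgInt} {G : Type u} [Group G] {H : Type v} [Group H] (e : G ≃* H)
    (h : Good p a M G) : Good p a M H := by
  obtain ⟨χ, h1, h2, h3⟩ := h
  refine ⟨irrMap e χ, ?_, by rwa [vd_irrMap], by rwa [vd_irrMap]⟩
  rw [← blkMap_principalBlock e]
  exact irrMap_mem_blkMap.2 h1

/-- The height in the principal block is the exponent of `p` in the degree. -/
theorem blockHeight_eq_vd (p : ℕ) {M : Ideal AlgInt} (hM : IsPModular p M) {G : Type u} [Group G] (χ : IrrCharacter G) :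
    blockHeight p (principalBlock M G) (χ : G → ℂ) = vd p (χ : G → ℂ) := by
  unfold blockHeight vd
  have h0 : (0 : ℕ) ∈ ((fun ψ : IrrCharacter G => (charDegree (ψ : G → ℂ)).factorization p) ''
      (principalBlock M G)) := by
    refine ⟨⟨fun _ => 1, Cfsg.Agent.Blocks.Basic.isIrrCharacter_one⟩, ?_, ?_⟩
    · intro g
      rw [sub_self]
      exact Cfsg.Agent.Blocks.LocalRing.memLocalIdeal_zero hM
    · show (charDegree (fun _ : G => (1 : ℂ))).factorization p = 0
      rw [Cfsg.Agent.Blocks.Basic.charDegree_of_eq (n := 1) (by simp)]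
      simp
  rw [Nat.sInf_eq_zero.2 (Or.inl h0), Nat.sub_zero]

/-- a finite group is isomorphic to a group in `Type` -/
theorem exists_type (G : Type u) [Group G] [Finite G] :
    ∃ (H : Type) (_ : Group H) (_ : Finite H), Nonempty (G ≃* H) := by
  obtain ⟨n, ⟨e⟩⟩ := Finite.exists_equiv_fin G
  have hs : Small.{0} G := ⟨⟨Fin n, ⟨e⟩⟩⟩
  exact ⟨Shrink.{0} G, inferInstance, Finite.of_equiv G (equivShrink G), ⟨(Shrink.mulEquiv (α := G)).symm⟩⟩

/-- **S4933 from the groups in `Type`** -/
theorem top {p : ℕ} [hp : Fact p.Prime] {M : Ideal AlgInt} (hM : IsPModular p M)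
    (hmain : ∀ (H : Type) [Group H] [Finite H] (P : Sylow p H) (a : ℕ), 0 < a → CD p a (P : Subgroup H) → Good p a M H)
    {G : Type u} [Group G] [Finite G] (P : Sylow p G) (a : ℕ) (ha : 0 < a)
    (hcd : ∀ φ : IrrCharacter ↥P, charDegree (φ : ↥P → ℂ) = 1 ∨ charDegree (φ : ↥P → ℂ) = p ^ a)
    (hex : ∃ φ : IrrCharacter ↥P, charDegree (φ : ↥P → ℂ) = p ^ a) :
    ∃ χ : IrrCharacter G, χ ∈ principalBlock M G ∧
      0 < blockHeight p (principalBlock M G) (χ : G → ℂ) ∧ blockHeight p (principalBlock M G) (χ : G → ℂ) ≤ a := by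
  obtain ⟨H, _, _, ⟨e⟩⟩ := exists_type G
  -- a Sylow subgroup of `H` isomorphic to `P`
  have hQ : IsPGroup p ((P : Subgroup G).map e.toMonoidHom) := P.isPGroup'.map _
  obtain ⟨Q, hQ'⟩ := hQ.exists_le_sylow
  have hcard : Nat.card Q = Nat.card P := by
    rw [Sylow.card_eq_multiplicity, Sylow.card_eq_multiplicity, Nat.card_congr e.toEquiv]
  have hmap : (P : Subgroup G).map e.toMonoidHom = (Q : Subgroup H) := by
    refine Subgroup.eq_of_le_of_card_ge hQ' ?_
    rw [Subgroup.card_map_of_injective e.injective]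
    exact hcard.le
  have f : (P : Subgroup G) ≃* (Q : Subgroup H) :=
    (Subgroup.equivMapOfInjective (P : Subgroup G) e.toMonoidHom e.injective).trans (MulEquiv.subgroupCongr hmap)
  have h1 : CD p a (Q : Subgroup H) := CD_congr f ⟨hcd, hex⟩
  obtain ⟨χ, h2, h3, h4⟩ := Good_congr e.symm (hmain H Q a ha h1)
  exact ⟨χ, h2, by rwa [blockHeight_eq_vd p hM], by rwa [blockHeight_eq_vd p hM]⟩

end Cfsg.Agent.H195.HT
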